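import Mathlib

/-!
# Right exactness in degree `p` versus left exactness in degree `p + 1` (helper5)
-/
set_option autoImplicit false
set_option linter.unusedSectionVars false
set_option linter.unusedVariables false
set_option linter.style.haveILetI false
universe u
open CategoryTheory CategoryTheory.Limits

namespace Groth.Agent.Lib.Helper5.ExactPQ

variable {A : Type*} [Category A] [Abelian A] {B : Type*} [Category B] [Abelian B]

/-- if two additive functors sit in "long exact sequences" in consecutive degrees, then the first
is right exact if and only if the second is left exact -/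
theorem preservesFiniteColimits_iff_preservesFiniteLimits (G₀ G₁ : A ⥤ B) [G₀.Additive]
    [G₁.Additive]
    (h : ∀ S : ShortComplex A, S.ShortExact →
      (S.map G₀).Exact ∧ (S.map G₁).Exact ∧ (Epi (G₀.map S.g) ↔ Mono (G₁.map S.f))) :
    PreservesFiniteColimits G₀ ↔ PreservesFiniteLimits G₁ := by
  rw [Functor.preservesFiniteColimits_iff_forall_exact_map_and_epi,
    Functor.preservesFiniteLimits_iff_forall_exact_map_and_mono]
  constructor
  · intro h0 S hS
    exact ⟨(h S hS).2.1, (h S hS).2.2.1 (h0 S hS).2⟩
  · intro h1 S hS
    exact ⟨(h S hS).1, (h S hS).2.2.2 (h1 S hS).2⟩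

end Groth.Agent.Lib.Helper5.ExactPQ
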