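import Mathlib
import Groth.Agent.Lib.Helper5.RpushPerf.WTShift

/-!
# Weakly triangulated functors are additive (helper5)
-/
set_option autoImplicit false
set_option linter.unusedSectionVars false
set_option linter.unusedVariables false
set_option linter.style.haveILetI false
universe u
open CategoryTheory CategoryTheory.Limits Pretriangulated
open scoped ZeroObject

namespace Groth.Agent.Lib.Helper5.ExactPQ

open Groth.Agent.Lib.Helper5.ProjF3 Groth.Agent.Lib.Helper5.RpushPerf

variable {C : Type*} [Category C] [HasZeroObject C] [HasShift C ℤ] [Preadditive C]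
  [∀ n : ℤ, (shiftFunctor C n).Additive] [Pretriangulated C]
  {D : Type*} [Category D] [HasZeroObject D] [HasShift D ℤ] [Preadditive D]
  [∀ n : ℤ, (shiftFunctor D n).Additive] [Pretriangulated D]

/-- a weakly triangulated functor preserves zero morphisms -/
theorem preservesZeroMorphisms_of_weakTri {F : C ⥤ D} (hF : WeakTri F) :
    F.PreservesZeroMorphisms :=
  Functor.preservesZeroMorphisms_of_map_zero_object
    ((weakTri_isZero_obj hF 0 (isZero_zero C)).iso (isZero_zero D))

/-- **a weakly triangulated functor is additive** -/
theorem additive_of_weakTri {F : C ⥤ D} (hF : WeakTri F) : F.Additive := by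
  haveI : F.PreservesZeroMorphisms := preservesZeroMorphisms_of_weakTri hF
  haveI : PreservesBinaryBiproducts F := by
    constructor
    intro X Y
    haveI : HasBinaryBiproduct (F.obj X) (F.obj Y) :=
      HasBinaryBiproducts.has_binary_biproduct _ _
    haveI : Mono (F.biprodComparison X Y) := by
      rw [Preadditive.mono_iff_cancel_zero]
      intro T φ hφ
      have h1 : φ ≫ F.map biprod.fst = 0 := by
        have := hφ =≫ biprod.fst
        simpa using this
      have h2 : φ ≫ F.map biprod.snd = 0 := by
        have := hφ =≫ biprod.snd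
        simpa using this
      have key : ∀ (ψ : T ⟶ F.obj X), φ = ψ ≫ F.map (biprod.inl : X ⟶ X ⊞ Y) → φ = 0 := by
        intro ψ hψ'
        have h5 : F.map (biprod.inl : X ⟶ X ⊞ Y) ≫ F.map (biprod.fst : X ⊞ Y ⟶ X) =
            𝟙 (F.obj X) := by
          rw [← F.map_comp, biprod.inl_fst, F.map_id]
        have h3 : ψ = 0 := by
          have h4 : ψ ≫ F.map (biprod.inl : X ⟶ X ⊞ Y) ≫ F.map (biprod.fst : X ⊞ Y ⟶ X) = 0 := by
            rw [← Category.assoc, ← hψ']
            exact h1
          rw [h5] at h4
          exact (Category.comp_id ψ).symm.trans h4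
        rw [hψ', h3, zero_comp]
      obtain ⟨c, hc⟩ := hF _ (binaryBiproductTriangle_distinguished X Y)
      obtain ⟨ψ, hψ⟩ := Triangle.coyoneda_exact₂ _ hc φ h2
      exact key ψ hψ
    exact preservesBinaryBiproduct_of_mono_biprodComparison F
  exact Functor.additive_of_preservesBinaryBiproducts F

end Groth.Agent.Lib.Helper5.ExactPQ
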