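import Mathlib
import Groth.Agent.Lib.Helper5.ExactPQ.WTAdd
import Groth.Agent.Lib.Helper5.ExactPQ.Formal


/-!
# On a ringed site, `M ↦ H^p(M ⊗^L E)` is right exact iff `M ↦ H^{p+1}(M ⊗^L E)` is left exact
(helper5)
-/
set_option autoImplicit false
set_option linter.unusedSectionVars false
set_option linter.unusedVariables false
set_option linter.style.haveILetI false
universe u
open CategoryTheory CategoryTheory.Limits Pretriangulated
attribute [local instance] HasDerivedCategory.standard

namespace Groth.Agent.Lib.Helper5.ExactPQ

open Groth.Agent.Lib.Helper5.ProjF3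

/-- the general statement on an abelian category -/
theorem preserves_iff_single {A : Type*} [Category A] [Abelian A] [HasDerivedCategory A]
    {B : Type*} [Category B] [Abelian B] [HasDerivedCategory B]
    (Φ : DerivedCategory A ⥤ DerivedCategory B) (hΦ : WeakTri Φ) (p : ℤ) :
    PreservesFiniteColimits (DerivedCategory.singleFunctor A 0 ⋙
      Φ ⋙ DerivedCategory.homologyFunctor B p) ↔
    PreservesFiniteLimits (DerivedCategory.singleFunctor A 0 ⋙
      Φ ⋙ DerivedCategory.homologyFunctor B (p + 1)) := by
  haveI : Φ.Additive := additive_of_weakTri hΦ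
  apply preservesFiniteColimits_iff_preservesFiniteLimits
  intro S hS
  have hT := hS.singleTriangle_distinguished
  obtain ⟨c, hc⟩ := hΦ _ hT
  refine ⟨?_, ?_, ?_⟩
  · exact DerivedCategory.HomologySequence.exact₂ _ hc p
  · exact DerivedCategory.HomologySequence.exact₂ _ hc (p + 1)
  · exact (DerivedCategory.HomologySequence.epi_homologyMap_mor₂_iff _ hc p (p + 1) rfl).trans
      (DerivedCategory.HomologySequence.mono_homologyMap_mor₁_iff _ hc p (p + 1) rfl).symm

end Groth.Agent.Lib.Helper5.ExactPQ
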