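import Mathlib
import Groth.Agent.Lib.Helper5.Misc.KFlatGen

/-!
# The total complex of `M[0] ⊗ Q` is `M ⊗ Q` termwise (helper5)
-/
set_option autoImplicit false
set_option linter.unusedSectionVars false
set_option linter.unusedVariables false
set_option linter.style.haveILetI false
universe v u
open CategoryTheory CategoryTheory.Limits HomologicalComplex

namespace Groth.Agent.Lib.Helper5.ExactPQ

section Concentrated₁

variable {A : Type u} [Category.{v} A] [Abelian A]
variable (T : A ⥤ A ⥤ A) [T.PreservesZeroMorphisms] [∀ X, (T.obj X).PreservesZeroMorphisms]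
  [∀ (K₁ K₂ : CochainComplex A ℤ), HasMapBifunctor K₁ K₂ T (ComplexShape.up ℤ)]
  (F Q : CochainComplex A ℤ) (hz : ∀ n, n ≠ 0 → IsZero (F.X n))

include hz in
lemma isIso_ι_concentrated₁ (q n : ℤ) (h : 0 + q = n) :
    IsIso (ιMapBifunctor F Q T (ComplexShape.up ℤ) 0 q n h) := by
  refine Groth.Agent.Lib.Helper5.Misc.KFlatGen.isIso_inj_of_isZero
    ((((T.mapBifunctorHomologicalComplex _ _).obj F).obj Q).toGradedObject.isColimitCofanMapObj _ n)
    (⟨(0, q), h⟩ : (ComplexShape.π (ComplexShape.up ℤ) (ComplexShape.up ℤ)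
      (ComplexShape.up ℤ)) ⁻¹' {n}) ?_
  rintro ⟨⟨p', q'⟩, h'⟩ hne
  have hp : p' ≠ 0 := by
    intro hp
    subst hp
    apply hne
    have h'' : 0 + q' = n := h'
    have : q' = q := by omega
    subst this
    rfl
  exact (Functor.isZero_iff _).1 (T.map_isZero (hz p' hp)) (Q.X q')

include hz in
lemma ι_d_concentrated₁ (q n : ℤ) (h : 0 + q = n) :
    ιMapBifunctor F Q T (ComplexShape.up ℤ) 0 q n h ≫
        (mapBifunctor F Q T (ComplexShape.up ℤ)).d n (n + 1) =
      (T.obj (F.X 0)).map (Q.d q (q + 1)) ≫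
        ιMapBifunctor F Q T (ComplexShape.up ℤ) 0 (q + 1) (n + 1) (by
          show 0 + (q + 1) = n + 1
          omega) := by
  rw [mapBifunctor.d_eq, Preadditive.comp_add, mapBifunctor.ι_D₁, mapBifunctor.ι_D₂]
  have hd1 : mapBifunctor.d₁ F Q T (ComplexShape.up ℤ) 0 q (n + 1) = 0 := by
    rw [mapBifunctor.d₁_eq F Q T (ComplexShape.up ℤ) (i₁ := 0) (i₁' := 1) (by simp) q (n + 1)
      (by show 1 + q = n + 1; omega)]
    have : F.d 0 1 = 0 := (hz 1 (by omega)).eq_of_tgt _ _
    rw [this, Functor.map_zero, zero_app, zero_comp, smul_zero]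
  rw [hd1, zero_add,
    mapBifunctor.d₂_eq F Q T (ComplexShape.up ℤ) 0 (i₂ := q) (i₂' := q + 1) (by simp) (n + 1)
      (by show 0 + (q + 1) = n + 1; omega)]
  simp

include hz in
lemma ι_d_concentrated₁' (q q' n n' : ℤ) (hq : q + 1 = q') (hn : n + 1 = n') (h : 0 + q = n)
    (h' : 0 + q' = n') :
    ιMapBifunctor F Q T (ComplexShape.up ℤ) 0 q n h ≫
        (mapBifunctor F Q T (ComplexShape.up ℤ)).d n n' =
      (T.obj (F.X 0)).map (Q.d q q') ≫
        ιMapBifunctor F Q T (ComplexShape.up ℤ) 0 q' n' h' := by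
  subst hq hn
  exact ι_d_concentrated₁ T F Q hz q n h

end Concentrated₁

section SingleLeft

variable {A : Type u} [Category.{v} A] [Abelian A]
variable (T : A ⥤ A ⥤ A) [T.PreservesZeroMorphisms] [∀ X, (T.obj X).PreservesZeroMorphisms]
  [∀ (K₁ K₂ : CochainComplex A ℤ), HasMapBifunctor K₁ K₂ T (ComplexShape.up ℤ)]

/-- the module `M` as a complex in degree `0` -/
noncomputable abbrev sC (M : A) : CochainComplex A ℤ :=
  (HomologicalComplex.single A (ComplexShape.up ℤ) 0).obj M

lemma isZero_sC_X (M : A) (n : ℤ) (hn : n ≠ 0) : IsZero ((sC M).X n) :=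
  HomologicalComplex.isZero_single_obj_X _ _ _ _ hn

/-- the components of `singleLeftIso` -/
noncomputable def slX (M : A) (Q : CochainComplex A ℤ) (n : ℤ) :
    (T.obj M).obj (Q.X n) ≅ (mapBifunctor (sC M) Q T (ComplexShape.up ℤ)).X n :=
  (T.mapIso (HomologicalComplex.singleObjXSelf (ComplexShape.up ℤ) 0 M).symm).app (Q.X n) ≪≫
    @asIso _ _ _ _ (ιMapBifunctor (sC M) Q T (ComplexShape.up ℤ) 0 n n (zero_add n))
      (isIso_ι_concentrated₁ T (sC M) Q (isZero_sC_X M) n n (zero_add n))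

lemma slX_hom (M : A) (Q : CochainComplex A ℤ) (n : ℤ) :
    (slX T M Q n).hom =
      (T.map (HomologicalComplex.singleObjXSelf (ComplexShape.up ℤ) 0 M).inv).app (Q.X n) ≫
        ιMapBifunctor (sC M) Q T (ComplexShape.up ℤ) 0 n n (zero_add n) := rfl

lemma slX_comm (M : A) (Q : CochainComplex A ℤ) (i : ℤ) :
    (slX T M Q i).hom ≫ (mapBifunctor (sC M) Q T (ComplexShape.up ℤ)).d i (i + 1) =
      (T.obj M).map (Q.d i (i + 1)) ≫ (slX T M Q (i + 1)).hom := by
  have h := ι_d_concentrated₁' T (sC M) Q (isZero_sC_X M) i (i + 1) i (i + 1) rfl rfl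
    (zero_add i) (zero_add (i + 1))
  have hnat := (T.map (HomologicalComplex.singleObjXSelf (ComplexShape.up ℤ) 0 M).inv).naturality
    (Q.d i (i + 1))
  rw [slX_hom, slX_hom, Category.assoc, h, ← Category.assoc, ← hnat, Category.assoc]

/-- **`T(M, Q^•) ≅ Tot(T(M[0], Q))`** -/
noncomputable def singleLeftIso (M : A) (Q : CochainComplex A ℤ) :
    ((T.obj M).mapHomologicalComplex (ComplexShape.up ℤ)).obj Q ≅
      mapBifunctor (sC M) Q T (ComplexShape.up ℤ) :=
  HomologicalComplex.Hom.isoOfComponents (fun n => slX T M Q n) (by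
    intro i j hij
    have hij' : i + 1 = j := hij
    subst hij'
    exact slX_comm T M Q i)

lemma singleLeftIso_hom_f (M : A) (Q : CochainComplex A ℤ) (n : ℤ) :
    (singleLeftIso T M Q).hom.f n = (slX T M Q n).hom := rfl

/-- naturality of `singleLeftIso` in the module -/
lemma singleLeftIso_naturality {M M' : A} (f : M ⟶ M') (Q : CochainComplex A ℤ) :
    (singleLeftIso T M Q).hom ≫
        mapBifunctorMap ((HomologicalComplex.single A (ComplexShape.up ℤ) 0).map f) (𝟙 Q) T
          (ComplexShape.up ℤ) =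
      (NatTrans.mapHomologicalComplex (T.map f) (ComplexShape.up ℤ)).app Q ≫
        (singleLeftIso T M' Q).hom := by
  ext n
  show (slX T M Q n).hom ≫ (mapBifunctorMap
      ((HomologicalComplex.single A (ComplexShape.up ℤ) 0).map f) (𝟙 Q) T (ComplexShape.up ℤ)).f n =
    (T.map f).app (Q.X n) ≫ (slX T M' Q n).hom
  have h1 : ((HomologicalComplex.single A (ComplexShape.up ℤ) 0).map f).f 0 =
      (HomologicalComplex.singleObjXSelf (ComplexShape.up ℤ) 0 M).hom ≫ f ≫
        (HomologicalComplex.singleObjXSelf (ComplexShape.up ℤ) 0 M').inv :=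
    HomologicalComplex.single_map_f_self _ _ _
  have key : (T.map (HomologicalComplex.singleObjXSelf (ComplexShape.up ℤ) 0 M).inv).app (Q.X n) ≫
      (T.map (((HomologicalComplex.single A (ComplexShape.up ℤ) 0).map f).f 0)).app (Q.X n) =
      (T.map f).app (Q.X n) ≫
        (T.map (HomologicalComplex.singleObjXSelf (ComplexShape.up ℤ) 0 M').inv).app (Q.X n) := by
    rw [← NatTrans.comp_app, ← NatTrans.comp_app, ← T.map_comp, ← T.map_comp, h1,
      Iso.inv_hom_id_assoc]
  have h2 : (T.obj ((sC M').X 0)).map ((𝟙 Q : Q ⟶ Q).f n) = 𝟙 _ := by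
    rw [HomologicalComplex.id_f, CategoryTheory.Functor.map_id]
  rw [slX_hom, slX_hom, Category.assoc, ι_mapBifunctorMap, h2, Category.id_comp, ← Category.assoc,
    key, Category.assoc]

end SingleLeft

end Groth.Agent.Lib.Helper5.ExactPQ
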