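import Mathlib
import Groth.Prelude.Def_KFlatSite
import Groth.Agent.Lib.Helper5.ProjF3.DerWeakTri
import Groth.Agent.Lib.Helper5.ProjF3.PresSplit
import Groth.Agent.Lib.Helper5.LTen.DerQ
import Groth.Agent.Lib.Helper5.LTen.LTenAll
import Groth.Agent.Lib.Helper5.KFlatSite2.Two

/-!
# The derived tensor product on a ringed site is weakly triangulated (helper5)
-/
set_option autoImplicit false
set_option linter.unusedSectionVars false
set_option linter.unusedVariables false
set_option linter.style.haveILetI false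
universe u
open CategoryTheory CategoryTheory.Limits Pretriangulated
attribute [local instance] HasDerivedCategory.standard

namespace Groth.Agent.Lib.Helper5.ExactPQ

open Groth.Agent.Lib.Helper5.DerQ Groth.Agent.Lib.Helper5.ProjF3

variable {C : Type u} [SmallCategory C] {J : GrothendieckTopology C} (O : Sheaf J CommRingCat.{u})
  (E : CochainComplex (ModSite.Mod O) ℤ)

/-- K-flat complexes are adapted to `- ⊗ E` -/
theorem adaptedQ_tensorCxQ_site :
    AdaptedQ (ModSite.tensorCxQ E)
      (fun K : CochainComplex (ModSite.Mod O) ℤ => ModSite.IsKFlat K) where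
  htpy f g hfg := by
    have h1 : Homotopy (((ModSite.tensorCx O).map f).app E) (((ModSite.tensorCx O).map g).app E) :=
      HomologicalComplex.mapBifunctorMapHomotopy₁ hfg (𝟙 E) (ModSite.tensorBi O)
        (ComplexShape.up ℤ)
    exact Groth.Agent.Lib.Helper5.LTenAll.Q_map_eq_of_homotopy _ _ h1
  res K := by
    obtain ⟨P, p, h1, _, h3, _⟩ :=
      Groth.Agent.Lib.Helper5.KFlatSiteQ.exists_isKFlat_resolution O K
    exact ⟨P, p, h1, h3⟩
  inv f hK hK' hf := by
    have h1 : QuasiIso (((ModSite.tensorCx O).map f).app E) :=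
      Groth.Agent.Lib.Helper5.KFlatSiteQ.quasiIso_tensor_right_of_isKFlat O f hK hK' hf E
    exact (inferInstance : IsIso (DerivedCategory.Q.map (((ModSite.tensorCx O).map f).app E)))

theorem kflat_res_site (K : CochainComplex (ModSite.Mod O) ℤ) :
    ∃ (K' : CochainComplex (ModSite.Mod O) ℤ) (q : K' ⟶ K), ModSite.IsKFlat K' ∧ QuasiIso q := by
  obtain ⟨P, p, h1, _, h3, _⟩ :=
    Groth.Agent.Lib.Helper5.KFlatSiteQ.exists_isKFlat_resolution O K
  exact ⟨P, p, h1, h3⟩

/-- **`- ⊗^L E` is weakly triangulated on a ringed site** -/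
theorem weakTri_LTensorCx_site [ModSite.HasLTensorCx E] : WeakTri (ModSite.LTensorCx E) := by
  refine weakTri_of_derived (fun K : CochainComplex (ModSite.Mod O) ℤ => ModSite.IsKFlat K)
    (kflat_res_site O) (ModSite.tensorCxQ E) (ModSite.LTensorCx E)
    ((ModSite.tensorCxQ E).totalLeftDerivedCounit DerivedCategory.Q
      (HomologicalComplex.quasiIso (ModSite.Mod O) (ComplexShape.up ℤ)))
    (fun ψ hC hA' =>
      (Groth.Agent.Lib.Helper5.Misc.KFlatSite.isKFlat_cone_two_of_three (O := O) ψ).1 hC hA')
    (fun C hC F hF =>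
      (Groth.Agent.Lib.Helper5.Misc.KFlatGen.tot_shift₂_acyclic_iff (ModSite.tensorBi O)
        F C 1).2 (hC F hF)) ?_ ?_
  · intro K hK
    exact isIso_counit_app (adaptedQ_tensorCxQ_site O E) (ModSite.LTensorCx E) _ K hK
  · intro C A' ψ hC hA'
    exact exists_distinguished_of_presSplit _ (presSplit_flip_obj (ModSite.tensorBi O) E) ψ

end Groth.Agent.Lib.Helper5.ExactPQ
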