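import Mathlib
import Groth.Prelude.Def_KFlatSite
import Groth.Agent.Lib.Helper5.ExactPQ.Single
import Groth.Agent.Lib.Helper5.ExactPQ.SiteWT
import Groth.Agent.Lib.Helper5.ExactPQ.SingleL
import Groth.Agent.Lib.Helper5.KFlatSite2.Qis
import Groth.Agent.Lib.Helper5.Misc.KFlatSite
import Groth.Agent.Lib.Helper5.Misc.TensorSES

/-!
# `M ↦ H^p(M ⊗^L E)` is right exact iff `coker(E^p → E^{p+1})` is flat (helper5)
-/
set_option autoImplicit false
set_option linter.unusedSectionVars false
set_option linter.unusedVariables false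
set_option linter.style.haveILetI false
universe u
open CategoryTheory CategoryTheory.Limits Pretriangulated HomologicalComplex
attribute [local instance] HasDerivedCategory.standard

namespace Groth.Agent.Lib.Helper5.ExactPQ

open Groth.Agent.Lib.Helper5.DerQ Groth.Agent.Lib.Helper5.ProjF3
  Groth.Agent.Lib.Helper5.TensorSheaf Groth.Agent.Lib.Helper5.TensorSES

section Formal

/-- right exactness in degree `p` is injectivity in degree `p + 1` -/
theorem preservesFiniteColimits_iff_forall_mono {A : Type*} [Category A] [Abelian A]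
    [HasDerivedCategory A] {B : Type*} [Category B] [Abelian B] [HasDerivedCategory B]
    (Φ : DerivedCategory A ⥤ DerivedCategory B) (hΦ : WeakTri Φ) (p : ℤ) :
    PreservesFiniteColimits (DerivedCategory.singleFunctor A 0 ⋙
      Φ ⋙ DerivedCategory.homologyFunctor B p) ↔
    ∀ S : ShortComplex A, S.ShortExact →
      Mono ((DerivedCategory.homologyFunctor B (p + 1)).map
        (Φ.map ((DerivedCategory.singleFunctor A 0).map S.f))) := by
  haveI : Φ.Additive := additive_of_weakTri hΦ
  rw [preserves_iff_single Φ hΦ p, Functor.preservesFiniteLimits_iff_forall_exact_map_and_mono]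
  constructor
  · intro h S hS
    exact (h S hS).2
  · intro h S hS
    refine ⟨?_, h S hS⟩
    obtain ⟨c, hc⟩ := hΦ _ hS.singleTriangle_distinguished
    exact DerivedCategory.HomologySequence.exact₂ _ hc (p + 1)

end Formal

section Sq

/-- monomorphisms are invariant under isomorphisms of arrows -/
lemma mono_iff_of_sq {D : Type*} [Category D] {X Y X' Y' : D} (f : X ⟶ Y) (g : X' ⟶ Y')
    (l : X ≅ X') (r : Y ≅ Y') (h : l.hom ≫ g = f ≫ r.hom) : Mono f ↔ Mono g := by
  have hg : g = l.inv ≫ f ≫ r.hom := by rw [← h, Iso.inv_hom_id_assoc]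
  have hf : f = l.hom ≫ g ≫ r.inv := by
    rw [← Category.assoc, h, Category.assoc, Iso.hom_inv_id, Category.comp_id]
  constructor
  · intro _
    rw [hg]
    infer_instance
  · intro _
    rw [hf]
    infer_instance

end Sq

section Chain

variable {A : Type*} [Category A] [Abelian A]

lemma opcyclesMap_fromOpcycles {K K' : CochainComplex A ℤ} (φ : K ⟶ K') (i j : ℤ) :
    opcyclesMap φ i ≫ K'.fromOpcycles i j = K.fromOpcycles i j ≫ φ.f j := by
  rw [← cancel_epi (K.pOpcycles i), p_opcyclesMap_assoc, p_fromOpcycles, p_fromOpcycles_assoc,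
    φ.comm]

/-- if `H^i(φ)` and `φ^{i+1}` are monomorphisms then so is the map on `opcycles^i` -/
theorem mono_opcyclesMap {K K' : CochainComplex A ℤ} (φ : K ⟶ K') (i j : ℤ) (hij : i + 1 = j)
    (h1 : Mono (homologyMap φ i)) (h2 : Mono (φ.f j)) : Mono (opcyclesMap φ i) := by
  rw [Preadditive.mono_iff_cancel_zero]
  intro W k hk
  have hc : (ComplexShape.up ℤ).next i = j := by
    subst hij
    simp
  have h3 : k ≫ K.fromOpcycles i j = 0 := by
    rw [← cancel_mono (φ.f j), Category.assoc, ← opcyclesMap_fromOpcycles, ← Category.assoc, hk,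
      zero_comp, zero_comp]
  let l := (K.homologyIsKernel i j hc).lift (KernelFork.ofι k h3)
  have hl : l ≫ K.homologyι i = k :=
    (K.homologyIsKernel i j hc).fac (KernelFork.ofι k h3) WalkingParallelPair.zero
  have h4 : l ≫ homologyMap φ i = 0 := by
    rw [← cancel_mono (K'.homologyι i), Category.assoc, homologyι_naturality, ← Category.assoc, hl,
      hk, zero_comp]
  have h5 : l = 0 := by
    rw [← cancel_mono (homologyMap φ i), h4, zero_comp]
  rw [← hl, h5, zero_comp]

end Chain

section Site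

variable {C : Type u} [SmallCategory C] {J : GrothendieckTopology C} (O : Sheaf J CommRingCat.{u})
  (E : CochainComplex (ModSite.Mod O) ℤ)

/-- `M ↦ M ⊗ E` (termwise) -/
noncomputable def tensorLeftCx : ModSite.Mod O ⥤ CochainComplex (ModSite.Mod O) ℤ where
  obj M := (((ModSite.tensorBi O).obj M).mapHomologicalComplex (ComplexShape.up ℤ)).obj E
  map f := (NatTrans.mapHomologicalComplex ((ModSite.tensorBi O).map f) (ComplexShape.up ℤ)).app E
  map_id M := by
    ext n
    simp
  map_comp f g := by
    ext n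
    simp

lemma tensorLeftCx_map_f {M M' : ModSite.Mod O} (f : M ⟶ M') (n : ℤ) :
    ((tensorLeftCx O E).map f).f n = ((ModSite.tensorBi O).map f).app (E.X n) := rfl

lemma tensorLeftCx_obj_d (M : ModSite.Mod O) (i j : ℤ) :
    ((tensorLeftCx O E).obj M).d i j = ((ModSite.tensorBi O).obj M).map (E.d i j) := rfl

variable (p : ℤ)

/-- `M ⊗ E^{p+1} → M ⊗ coker(d^p)` is a cokernel of `M ⊗ d^p` -/
noncomputable def cokM (M : ModSite.Mod O) :
    IsColimit (CokernelCofork.ofπ (f := ((ModSite.tensorBi O).obj M).map (E.d p (p + 1)))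
      (((ModSite.tensorBi O).obj M).map (cokernel.π (E.d p (p + 1)))) (by
        rw [← CategoryTheory.Functor.map_comp, cokernel.condition,
          CategoryTheory.Functor.map_zero])) :=
  CokernelCofork.mapIsColimit _ (cokernelIsCokernel (E.d p (p + 1))) ((ModSite.tensorBi O).obj M)

/-- `opcycles^{p+1}(M ⊗ E) ≅ M ⊗ coker(d^p)` -/
noncomputable def θ (M : ModSite.Mod O) :
    ((tensorLeftCx O E).obj M).opcycles (p + 1) ≅
      ((ModSite.tensorBi O).obj M).obj (cokernel (E.d p (p + 1))) :=
  (((tensorLeftCx O E).obj M).opcyclesIsCokernel p (p + 1) (by simp)).coconePointUniqueUpToIso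
    (cokM O E p M)

lemma p_θ_hom (M : ModSite.Mod O) :
    ((tensorLeftCx O E).obj M).pOpcycles (p + 1) ≫ (θ O E p M).hom =
      ((ModSite.tensorBi O).obj M).map (cokernel.π (E.d p (p + 1))) :=
  IsColimit.comp_coconePointUniqueUpToIso_hom
    (((tensorLeftCx O E).obj M).opcyclesIsCokernel p (p + 1) (by simp)) (cokM O E p M)
    WalkingParallelPair.one

lemma θ_naturality {M' M : ModSite.Mod O} (f : M' ⟶ M) :
    opcyclesMap ((tensorLeftCx O E).map f) (p + 1) ≫ (θ O E p M).hom =
      (θ O E p M').hom ≫ ((ModSite.tensorBi O).map f).app (cokernel (E.d p (p + 1))) := by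
  rw [← cancel_epi (((tensorLeftCx O E).obj M').pOpcycles (p + 1)), p_opcyclesMap_assoc, p_θ_hom,
    ← Category.assoc, p_θ_hom, tensorLeftCx_map_f]
  exact (((ModSite.tensorBi O).map f).naturality (cokernel.π (E.d p (p + 1)))).symm

lemma mono_opcyclesMap_iff {M' M : ModSite.Mod O} (f : M' ⟶ M) :
    Mono (opcyclesMap ((tensorLeftCx O E).map f) (p + 1)) ↔
      Mono (((ModSite.tensorBi O).map f).app (cokernel (E.d p (p + 1)))) :=
  mono_iff_of_sq _ _ (θ O E p M') (θ O E p M) (θ_naturality O E p f).symm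

/-- **(A)** if the cokernel is flat, `H^{p+1}(- ⊗ E)` preserves monomorphisms -/
theorem mono_homologyMap_of_isFlat (hC : ModSite.IsFlat (cokernel (E.d p (p + 1))))
    {M' M : ModSite.Mod O} (f : M' ⟶ M) [Mono f] :
    Mono (homologyMap ((tensorLeftCx O E).map f) (p + 1)) := by
  haveI : PreservesFiniteLimits ((ModSite.tensorBi O).flip.obj (cokernel (E.d p (p + 1)))) :=
    (isFlat_iff _).1 hC
  haveI h1 : Mono (((ModSite.tensorBi O).map f).app (cokernel (E.d p (p + 1)))) :=
    inferInstanceAs (Mono (((ModSite.tensorBi O).flip.obj (cokernel (E.d p (p + 1)))).map f))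
  haveI h2 : Mono (opcyclesMap ((tensorLeftCx O E).map f) (p + 1)) :=
    (mono_opcyclesMap_iff O E p f).2 h1
  have hnat := homologyι_naturality ((tensorLeftCx O E).map f) (p + 1)
  haveI : Mono (homologyMap ((tensorLeftCx O E).map f) (p + 1) ≫
      ((tensorLeftCx O E).obj M).homologyι (p + 1)) := by
    rw [hnat]
    exact mono_comp _ _
  exact mono_of_mono _ (((tensorLeftCx O E).obj M).homologyι (p + 1))

/-- **(B)** if `H^{p+1}(- ⊗ E)` preserves monomorphisms and `E^{p+2}` is flat, the cokernel is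
flat -/
theorem isFlat_cokernel_of_mono (hE : ModSite.IsFlat (E.X (p + 1 + 1)))
    (h : ∀ S : ShortComplex (ModSite.Mod O), S.ShortExact →
      Mono (homologyMap ((tensorLeftCx O E).map S.f) (p + 1))) :
    ModSite.IsFlat (cokernel (E.d p (p + 1))) := by
  rw [isFlat_iff, Functor.preservesFiniteLimits_iff_forall_exact_map_and_mono]
  intro S hS
  refine ⟨(map_exact_epi _ S hS).1, ?_⟩
  haveI := hS.mono_f
  haveI : PreservesFiniteLimits ((ModSite.tensorBi O).flip.obj (E.X (p + 1 + 1))) :=
    (isFlat_iff _).1 hE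
  have h2 : Mono (((tensorLeftCx O E).map S.f).f (p + 1 + 1)) :=
    inferInstanceAs (Mono (((ModSite.tensorBi O).flip.obj (E.X (p + 1 + 1))).map S.f))
  have h3 := mono_opcyclesMap ((tensorLeftCx O E).map S.f) (p + 1) (p + 1 + 1) rfl (h S hS) h2
  exact (mono_opcyclesMap_iff O E p S.f).1 h3

end Site

end Groth.Agent.Lib.Helper5.ExactPQ
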