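import Mathlib
import Groth.Prelude.Def_KFlatSite
import Groth.Agent.Lib.Helper5.ExactPQ.CokerP

/-!
# `M ↦ H^p(M ⊗^L E)` is right exact iff `coker(E^p → E^{p+1})` is flat: the main theorem (helper5)
-/
set_option autoImplicit false
set_option linter.unusedSectionVars false
set_option linter.unusedVariables false
set_option linter.style.haveILetI false
universe u
open CategoryTheory CategoryTheory.Limits Pretriangulated HomologicalComplex
attribute [local instance] HasDerivedCategory.standard

namespace Groth.Agent.Lib.Helper5.ExactPQ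

open Groth.Agent.Lib.Helper5.DerQ Groth.Agent.Lib.Helper5.ProjF3
  Groth.Agent.Lib.Helper5.TensorSheaf Groth.Agent.Lib.Helper5.TensorSES

variable {C : Type u} [SmallCategory C] {J : GrothendieckTopology C} (O : Sheaf J CommRingCat.{u})
  (E : CochainComplex (ModSite.Mod O) ℤ)

/-- every complex is adapted to `- ⊗ E` when `E` is K-flat -/
theorem adaptedQ_all (hK : ModSite.IsKFlat E) :
    AdaptedQ (ModSite.tensorCxQ E) (fun _ : CochainComplex (ModSite.Mod O) ℤ => True) where
  htpy f g hfg := by
    have h1 : Homotopy (((ModSite.tensorCx O).map f).app E) (((ModSite.tensorCx O).map g).app E) :=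
      HomologicalComplex.mapBifunctorMapHomotopy₁ hfg (𝟙 E) (ModSite.tensorBi O)
        (ComplexShape.up ℤ)
    exact Groth.Agent.Lib.Helper5.LTenAll.Q_map_eq_of_homotopy _ _ h1
  res K := ⟨K, 𝟙 K, trivial, inferInstance⟩
  inv f _ _ hf := by
    have h1 : QuasiIso (((ModSite.tensorCx O).map f).app E) :=
      Groth.Agent.Lib.Helper5.KFlatSiteQ.quasiIso_tensor_right O hK f hf
    exact (inferInstance : IsIso (DerivedCategory.Q.map (((ModSite.tensorCx O).map f).app E)))

variable [ModSite.HasLTensorCx E]

/-- transport of injectivity from the derived functor to the chain level -/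
theorem mono_iff_chain (hK : ModSite.IsKFlat E) {M' M : ModSite.Mod O} (f : M' ⟶ M) (j : ℤ) :
    Mono ((DerivedCategory.homologyFunctor (ModSite.Mod O) j).map
      ((ModSite.LTensorCx E).map ((DerivedCategory.singleFunctor (ModSite.Mod O) 0).map f))) ↔
    Mono (homologyMap ((tensorLeftCx O E).map f) j) := by
  let H := DerivedCategory.homologyFunctor (ModSite.Mod O) j
  let Φ := ModSite.LTensorCx E
  let s := HomologicalComplex.single (ModSite.Mod O) (ComplexShape.up ℤ) 0
  let σ := DerivedCategory.singleFunctorIsoCompQ (ModSite.Mod O) 0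
  let α := (ModSite.tensorCxQ E).totalLeftDerivedCounit DerivedCategory.Q
    (HomologicalComplex.quasiIso (ModSite.Mod O) (ComplexShape.up ℤ))
  have hα : ∀ K, IsIso (α.app K) := fun K =>
    isIso_counit_app (adaptedQ_all O E hK) (ModSite.LTensorCx E) α K trivial
  -- step 1
  have e1 : Mono (H.map (Φ.map ((DerivedCategory.singleFunctor (ModSite.Mod O) 0).map f))) ↔
      Mono (H.map (Φ.map (DerivedCategory.Q.map (s.map f)))) := by
    refine mono_iff_of_sq _ _ (H.mapIso (Φ.mapIso (σ.app M'))) (H.mapIso (Φ.mapIso (σ.app M))) ?_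
    have hn := σ.hom.naturality f
    have h2 := congrArg (fun t => H.map (Φ.map t)) hn
    simp only [Functor.map_comp] at h2
    exact h2.symm
  -- step 2
  have e2 : Mono (H.map (Φ.map (DerivedCategory.Q.map (s.map f)))) ↔
      Mono (H.map (DerivedCategory.Q.map (((ModSite.tensorCx O).map (s.map f)).app E))) := by
    haveI := hα (s.obj M')
    haveI := hα (s.obj M)
    refine mono_iff_of_sq _ _ (H.mapIso (asIso (α.app (s.obj M'))))
      (H.mapIso (asIso (α.app (s.obj M)))) ?_
    have hn := α.naturality (s.map f)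
    have h2 := congrArg (fun t => H.map t) hn
    simp only [Functor.map_comp] at h2
    exact h2.symm
  -- step 3
  have e3 : Mono (H.map (DerivedCategory.Q.map (((ModSite.tensorCx O).map (s.map f)).app E))) ↔
      Mono (H.map (DerivedCategory.Q.map ((tensorLeftCx O E).map f))) := by
    let iM' : (tensorLeftCx O E).obj M' ≅ ((ModSite.tensorCx O).obj (s.obj M')).obj E :=
      singleLeftIso (ModSite.tensorBi O) M' E
    let iM : (tensorLeftCx O E).obj M ≅ ((ModSite.tensorCx O).obj (s.obj M)).obj E :=
      singleLeftIso (ModSite.tensorBi O) M E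
    have hn : iM'.hom ≫ ((ModSite.tensorCx O).map (s.map f)).app E =
        (tensorLeftCx O E).map f ≫ iM.hom :=
      singleLeftIso_naturality (ModSite.tensorBi O) f E
    have hn' : iM'.inv ≫ (tensorLeftCx O E).map f =
        ((ModSite.tensorCx O).map (s.map f)).app E ≫ iM.inv :=
      (Iso.inv_comp_eq iM').2 (((Iso.eq_comp_inv iM).2 hn.symm).trans (Category.assoc _ _ _))
    refine mono_iff_of_sq _ _ (H.mapIso (DerivedCategory.Q.mapIso iM'.symm))
      (H.mapIso (DerivedCategory.Q.mapIso iM.symm)) ?_
    show H.map (DerivedCategory.Q.map iM'.inv) ≫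
        H.map (DerivedCategory.Q.map ((tensorLeftCx O E).map f)) =
      H.map (DerivedCategory.Q.map (((ModSite.tensorCx O).map (s.map f)).app E)) ≫
        H.map (DerivedCategory.Q.map iM.inv)
    rw [← H.map_comp, ← H.map_comp, ← DerivedCategory.Q.map_comp, ← DerivedCategory.Q.map_comp, hn']
  -- step 4
  have e4 : Mono (H.map (DerivedCategory.Q.map ((tensorLeftCx O E).map f))) ↔
      Mono (homologyMap ((tensorLeftCx O E).map f) j) := by
    refine mono_iff_of_sq _ _
      ((DerivedCategory.homologyFunctorFactors (ModSite.Mod O) j).app _)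
      ((DerivedCategory.homologyFunctorFactors (ModSite.Mod O) j).app _) ?_
    exact ((DerivedCategory.homologyFunctorFactors (ModSite.Mod O) j).hom.naturality
      ((tensorLeftCx O E).map f)).symm
  exact e1.trans (e2.trans (e3.trans e4))

/-- **the main theorem** -/
theorem preserves_iff_isFlat_cokernel (e : ℤ) (hEb : ∀ i : ℤ, e < i → IsZero (E.X i))
    (hEf : ∀ i : ℤ, ModSite.IsFlat (E.X i)) (p : ℤ) :
    PreservesFiniteColimits (DerivedCategory.singleFunctor (ModSite.Mod O) 0 ⋙
      ModSite.LTensorCx E ⋙ DerivedCategory.homologyFunctor (ModSite.Mod O) p) ↔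
    ModSite.IsFlat (cokernel (E.d p (p + 1))) := by
  have hle : E.IsStrictlyLE e := (CochainComplex.isStrictlyLE_iff E e).2 hEb
  have hK : ModSite.IsKFlat E :=
    Groth.Agent.Lib.Helper5.Misc.KFlatSite.isKFlat_of_bounded_above O E e hle hEf
  rw [preservesFiniteColimits_iff_forall_mono _ (weakTri_LTensorCx_site O E) p]
  constructor
  · intro h
    refine isFlat_cokernel_of_mono O E p (hEf _) (fun S hS => ?_)
    exact (mono_iff_chain O E hK S.f (p + 1)).1 (h S hS)
  · intro hC S hS
    haveI := hS.mono_f
    exact (mono_iff_chain O E hK S.f (p + 1)).2 (mono_homologyMap_of_isFlat O E p hC S.f)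

end Groth.Agent.Lib.Helper5.ExactPQ
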