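import Mathlib
import Groth.Prelude.Def_QCohCat
import Groth.Agent.Lib.Helper4.QCohAb1
import Groth.Agent.Lib.Helper5.ExactPQ.WTAdd
import Groth.Agent.Lib.Helper5.ExactPQ.Formal
import Groth.Agent.Lib.Helper5.ProjF3.LTenWT

/-!
# `M ↦ H^p(Φ(M))` is right exact iff `M ↦ H^{p+1}(Φ(M))` is left exact, for `Φ` weakly
triangulated (helper5)
-/
set_option autoImplicit false
set_option linter.unusedSectionVars false
set_option linter.unusedVariables false
set_option linter.style.haveILetI false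
universe u
open CategoryTheory CategoryTheory.Limits Pretriangulated AlgebraicGeometry
attribute [local instance] HasDerivedCategory.standard

namespace Groth.Agent.Lib.Helper5.ExactPQ

open Groth.Agent.Lib.Helper5.ProjF3 Groth.Agent.Lib.Helper5.RpushPerf
  Groth.Agent.Lib.Helper4.QCohAb1

variable {Y Z : Scheme.{u}}

/-- the general statement on quasi-coherent modules -/
theorem preserves_iff_qcoh (Φ : DCoh.D Y ⥤ DCoh.D Z) (hΦ : WeakTri Φ) (p : ℤ) :
    PreservesFiniteColimits ((QCohCat.isQCoh Y).ι ⋙ DerivedCategory.singleFunctor Y.Modules 0 ⋙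
      Φ ⋙ DerivedCategory.homologyFunctor Z.Modules p) ↔
    PreservesFiniteLimits ((QCohCat.isQCoh Y).ι ⋙ DerivedCategory.singleFunctor Y.Modules 0 ⋙
      Φ ⋙ DerivedCategory.homologyFunctor Z.Modules (p + 1)) := by
  letI : Abelian (QCohCat.isQCoh Y).FullSubcategory := inferInstanceAs (Abelian (QCoh Y))
  haveI : PreservesFiniteLimits (QCohCat.isQCoh Y).ι :=
    inferInstanceAs (PreservesFiniteLimits (qc Y).ι)
  haveI : PreservesFiniteColimits (QCohCat.isQCoh Y).ι :=
    inferInstanceAs (PreservesFiniteColimits (qc Y).ι)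
  haveI : (QCohCat.isQCoh Y).ι.Additive := inferInstanceAs (qc Y).ι.Additive
  haveI : Φ.Additive := additive_of_weakTri hΦ
  apply preservesFiniteColimits_iff_preservesFiniteLimits
  intro S hS
  have hS' : (S.map (QCohCat.isQCoh Y).ι).ShortExact := hS.map_of_exact _
  have hT := hS'.singleTriangle_distinguished
  obtain ⟨c, hc⟩ := hΦ _ hT
  refine ⟨?_, ?_, ?_⟩
  · exact DerivedCategory.HomologySequence.exact₂ _ hc p
  · exact DerivedCategory.HomologySequence.exact₂ _ hc (p + 1)
  · exact (DerivedCategory.HomologySequence.epi_homologyMap_mor₂_iff _ hc p (p + 1) rfl).trans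
      (DerivedCategory.HomologySequence.mono_homologyMap_mor₁_iff _ hc p (p + 1) rfl).symm

/-- the statement for `Φ = Rf_*(Lf^*(-) ⊗^L F)` -/
theorem preserves_iff_rpush_ltensor_lpull {X : Scheme.{u}} (f : X ⟶ Y)
    (F : CochainComplex X.Modules ℤ) (p : ℤ) [DCoh.HasLpull f] [DCoh.HasLTensorCx F]
    [DCoh.HasRpush f] :
    PreservesFiniteColimits ((QCohCat.isQCoh Y).ι ⋙ DerivedCategory.singleFunctor Y.Modules 0 ⋙
      DCoh.Lpull f ⋙ DCoh.LTensorCx F ⋙ DCoh.Rpush f ⋙
      DerivedCategory.homologyFunctor Y.Modules p) ↔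
    PreservesFiniteLimits ((QCohCat.isQCoh Y).ι ⋙ DerivedCategory.singleFunctor Y.Modules 0 ⋙
      DCoh.Lpull f ⋙ DCoh.LTensorCx F ⋙ DCoh.Rpush f ⋙
      DerivedCategory.homologyFunctor Y.Modules (p + 1)) :=
  preserves_iff_qcoh (DCoh.Lpull f ⋙ DCoh.LTensorCx F ⋙ DCoh.Rpush f)
    ((weakTri_lpull f).comp ((weakTri_LTensorCx F).comp (weakTri_rpush f))) p

end Groth.Agent.Lib.Helper5.ExactPQ
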